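import Cfsg.Agent.Lib.H17.Fi22O73.Tables

set_option autoImplicit false
set_option maxRecDepth 100000

/-! # Relator checks for Fi22O73, part 0 (generated) -/

namespace Cfsg.Agent.Lib.H17.Fi22O73

open Cfsg.Spor Cfsg.Agent.Lib.H17.CosetCert Cfsg.Agent.Lib.H17.CoxGlue Cfsg.Agent.Lib.H17.Fi22Glue

theorem relT0_ok : checkWord 14 16384 relT0 14080 = true := by
  decide +kernel

theorem relT1_ok : checkWord 14 16384 relT1 14080 = true := by
  decide +kernel

theorem relT2_ok : checkWord 14 16384 relT2 14080 = true := by
  decide +kernel

theorem relT3_ok : checkWord 14 16384 relT3 14080 = true := by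
  decide +kernel

theorem relT4_ok : checkWord 14 16384 relT4 14080 = true := by
  decide +kernel

theorem relT5_ok : checkWord 14 16384 relT5 14080 = true := by
  decide +kernel

theorem relT6_ok : checkWord 14 16384 relT6 14080 = true := by
  decide +kernel

theorem relT7_ok : checkWord 14 16384 relT7 14080 = true := by
  decide +kernel

theorem relT8_ok : checkWord 14 16384 relT8 14080 = true := by
  decide +kernel

theorem relT9_ok : checkWord 14 16384 relT9 14080 = true := by
  decide +kernel

theorem relT10_ok : checkWord 14 16384 relT10 14080 = true := by
  decide +kernel

theorem relT11_ok : checkWord 14 16384 relT11 14080 = true := by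
  decide +kernel

theorem relT12_ok : checkWord 14 16384 relT12 14080 = true := by
  decide +kernel

theorem relT13_ok : checkWord 14 16384 relT13 14080 = true := by
  decide +kernel

theorem relT14_ok : checkWord 14 16384 relT14 14080 = true := by
  decide +kernel

theorem relT15_ok : checkWord 14 16384 relT15 14080 = true := by
  decide +kernel

theorem relT16_ok : checkWord 14 16384 relT16 14080 = true := by
  decide +kernel

theorem relT17_ok : checkWord 14 16384 relT17 14080 = true := by
  decide +kernel

theorem relT18_ok : checkWord 14 16384 relT18 14080 = true := by
  decide +kernel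

theorem relT19_ok : checkWord 14 16384 relT19 14080 = true := by
  decide +kernel

theorem relT20_ok : checkWord 14 16384 relT20 14080 = true := by
  decide +kernel

theorem relT21_ok : checkWord 14 16384 relT21 14080 = true := by
  decide +kernel

theorem relT22_ok : checkWord 14 16384 relT22 14080 = true := by
  decide +kernel

theorem relT23_ok : checkWord 14 16384 relT23 14080 = true := by
  decide +kernel

theorem relT24_ok : checkWord 14 16384 relT24 14080 = true := by
  decide +kernel

theorem relT25_ok : checkWord 14 16384 relT25 14080 = true := by
  decide +kernel

theorem relT26_ok : checkWord 14 16384 relT26 14080 = true := by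
  decide +kernel

theorem relT27_ok : checkWord 14 16384 relT27 14080 = true := by
  decide +kernel

theorem relT28_ok : checkWord 14 16384 relT28 14080 = true := by
  decide +kernel

theorem relT29_ok : checkWord 14 16384 relT29 14080 = true := by
  decide +kernel

end Cfsg.Agent.Lib.H17.Fi22O73
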