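import Cfsg.Agent.Lib.H17.Fi22O73.Tables

set_option autoImplicit false
set_option maxRecDepth 100000

/-! # Relator checks for Fi22O73, part 1 (generated) -/

namespace Cfsg.Agent.Lib.H17.Fi22O73

open Cfsg.Spor Cfsg.Agent.Lib.H17.CosetCert Cfsg.Agent.Lib.H17.CoxGlue Cfsg.Agent.Lib.H17.Fi22Glue

theorem relT30_ok : checkWord 14 16384 relT30 14080 = true := by
  decide +kernel

theorem relT31_ok : checkWord 14 16384 relT31 14080 = true := by
  decide +kernel

theorem relT32_ok : checkWord 14 16384 relT32 14080 = true := by
  decide +kernel

theorem relT33_ok : checkWord 14 16384 relT33 14080 = true := by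
  decide +kernel

theorem relT34_ok : checkWord 14 16384 relT34 14080 = true := by
  decide +kernel

theorem relT35_ok : checkWord 14 16384 relT35 14080 = true := by
  decide +kernel

theorem relT36_ok : checkWord 14 16384 relT36 14080 = true := by
  decide +kernel

theorem relT37_ok : checkWord 14 16384 relT37 14080 = true := by
  decide +kernel

end Cfsg.Agent.Lib.H17.Fi22O73
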