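import Cfsg.Agent.Lib.H17.Fi22O73.Tables

set_option autoImplicit false
set_option maxRecDepth 100000

/-! # Relator checks for Fi22O73, part 2 (generated) -/

namespace Cfsg.Agent.Lib.H17.Fi22O73

open Cfsg.Spor Cfsg.Agent.Lib.H17.CosetCert Cfsg.Agent.Lib.H17.CoxGlue Cfsg.Agent.Lib.H17.Fi22Glue

theorem relT38_ok : checkWord 14 16384 relT38 14080 = true := by
  decide +kernel

theorem relT39_ok : checkWord 14 16384 relT39 14080 = true := by
  decide +kernel

theorem relT40_ok : checkWord 14 16384 relT40 14080 = true := by
  decide +kernel

theorem relT41_ok : checkWord 14 16384 relT41 14080 = true := by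
  decide +kernel

theorem relT42_ok : checkWord 14 16384 relT42 14080 = true := by
  decide +kernel

theorem relT43_ok : checkWord 14 16384 relT43 14080 = true := by
  decide +kernel

theorem relT44_ok : checkWord 14 16384 relT44 14080 = true := by
  decide +kernel

theorem relT45_ok : checkWord 14 16384 relT45 14080 = true := by
  decide +kernel

theorem relT46_ok : checkWord 14 16384 relT46 14080 = true := by
  decide +kernel

theorem relT47_ok : checkWord 14 16384 relT47 14080 = true := by
  decide +kernel

theorem relT48_ok : checkWord 14 16384 relT48 14080 = true := by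
  decide +kernel

end Cfsg.Agent.Lib.H17.Fi22O73
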