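import Cfsg.Agent.Lib.H17.Fi22O73.StepsA
import Cfsg.Agent.Lib.H17.Fi22O73.StepsB
import Cfsg.Agent.Lib.H17.Fi22O73.StepsC
import Cfsg.Agent.Lib.H17.Fi22O73.StepsD
import Cfsg.Agent.Lib.H17.Fi22O73.Rows

set_option autoImplicit false
set_option maxRecDepth 100000

/-! # Upper bound for the index, Fi22O73 (generated) -/

namespace Cfsg.Agent.Lib.H17.Fi22O73

open Cfsg.Spor Cfsg.Agent.Lib.H17.CosetCert Cfsg.Agent.Lib.H17.CoxGlue Cfsg.Agent.Lib.H17.Fi22Glue

/-- the presented group -/
abbrev G : Type := PresentedGroup rels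

/-- the subgroup generators as words -/
abbrev S : Set (FreeGroup Gen) :=
  {Cfsg.Spor.Fi22.b, Cfsg.Spor.Fi22.c, Cfsg.Spor.Fi22.d, Cfsg.Spor.Fi22.e, Cfsg.Spor.Fi22.f, Cfsg.Spor.Fi22.g, Cfsg.Spor.Fi22.h, Cfsg.Spor.Fi22.i}

/-- the subgroup -/
abbrev H : Subgroup G := (Subgroup.closure S).map (PresentedGroup.mk rels)

/-- the generator images -/
noncomputable def γ (x : ℕ) : G := PresentedGroup.of (gen x)

theorem γ_mul_self (x : ℕ) : γ x * γ x = 1 := of_mul_self _

/-- letters of subgroup generator 0 -/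
def sgL0 : List (Gen × Bool) := [(.b, true)]

theorem sg0_eq : (Cfsg.Spor.Fi22.b : FreeGroup Gen) = FreeGroup.mk sgL0 := by rfl

theorem sg0_mem : (Cfsg.Spor.Fi22.b : FreeGroup Gen) ∈ S := by
  simp [S]

/-- letters of subgroup generator 1 -/
def sgL1 : List (Gen × Bool) := [(.c, true)]

theorem sg1_eq : (Cfsg.Spor.Fi22.c : FreeGroup Gen) = FreeGroup.mk sgL1 := by rfl

theorem sg1_mem : (Cfsg.Spor.Fi22.c : FreeGroup Gen) ∈ S := by
  simp [S]

/-- letters of subgroup generator 2 -/
def sgL2 : List (Gen × Bool) := [(.d, true)]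

theorem sg2_eq : (Cfsg.Spor.Fi22.d : FreeGroup Gen) = FreeGroup.mk sgL2 := by rfl

theorem sg2_mem : (Cfsg.Spor.Fi22.d : FreeGroup Gen) ∈ S := by
  simp [S]

/-- letters of subgroup generator 3 -/
def sgL3 : List (Gen × Bool) := [(.e, true)]

theorem sg3_eq : (Cfsg.Spor.Fi22.e : FreeGroup Gen) = FreeGroup.mk sgL3 := by rfl

theorem sg3_mem : (Cfsg.Spor.Fi22.e : FreeGroup Gen) ∈ S := by
  simp [S]

/-- letters of subgroup generator 4 -/
def sgL4 : List (Gen × Bool) := [(.f, true)]

theorem sg4_eq : (Cfsg.Spor.Fi22.f : FreeGroup Gen) = FreeGroup.mk sgL4 := by rfl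

theorem sg4_mem : (Cfsg.Spor.Fi22.f : FreeGroup Gen) ∈ S := by
  simp [S]

/-- letters of subgroup generator 5 -/
def sgL5 : List (Gen × Bool) := [(.g, true)]

theorem sg5_eq : (Cfsg.Spor.Fi22.g : FreeGroup Gen) = FreeGroup.mk sgL5 := by rfl

theorem sg5_mem : (Cfsg.Spor.Fi22.g : FreeGroup Gen) ∈ S := by
  simp [S]

/-- letters of subgroup generator 6 -/
def sgL6 : List (Gen × Bool) := [(.h, true)]

theorem sg6_eq : (Cfsg.Spor.Fi22.h : FreeGroup Gen) = FreeGroup.mk sgL6 := by rfl

theorem sg6_mem : (Cfsg.Spor.Fi22.h : FreeGroup Gen) ∈ S := by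
  simp [S]

/-- letters of subgroup generator 7 -/
def sgL7 : List (Gen × Bool) := [(.i, true)]

theorem sg7_eq : (Cfsg.Spor.Fi22.i : FreeGroup Gen) = FreeGroup.mk sgL7 := by rfl

theorem sg7_mem : (Cfsg.Spor.Fi22.i : FreeGroup Gen) ∈ S := by
  simp [S]

theorem mk_mk (L : List (Gen × Bool)) : PresentedGroup.mk rels (FreeGroup.mk L) =
    ((L.map Prod.fst).map (PresentedGroup.of (rels := rels))).prod := by
  rw [mk_eq_lift, lift_mk_of_invol _ of_mul_self]

theorem sgW_mem : ∀ v ∈ sgW, (v.map γ).prod ∈ H := by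
  intro v hv
  obtain ⟨t, ht, rfl⟩ := List.getElem_of_mem hv
  have ht' : t < 8 := ht
  interval_cases t
  · have h1 : PresentedGroup.mk rels (FreeGroup.mk sgL0) ∈ H :=
      Subgroup.mem_map_of_mem _ (Subgroup.subset_closure (sg0_eq ▸ sg0_mem))
    rw [mk_mk] at h1
    exact h1
  · have h1 : PresentedGroup.mk rels (FreeGroup.mk sgL1) ∈ H :=
      Subgroup.mem_map_of_mem _ (Subgroup.subset_closure (sg1_eq ▸ sg1_mem))
    rw [mk_mk] at h1
    exact h1
  · have h1 : PresentedGroup.mk rels (FreeGroup.mk sgL2) ∈ H :=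
      Subgroup.mem_map_of_mem _ (Subgroup.subset_closure (sg2_eq ▸ sg2_mem))
    rw [mk_mk] at h1
    exact h1
  · have h1 : PresentedGroup.mk rels (FreeGroup.mk sgL3) ∈ H :=
      Subgroup.mem_map_of_mem _ (Subgroup.subset_closure (sg3_eq ▸ sg3_mem))
    rw [mk_mk] at h1
    exact h1
  · have h1 : PresentedGroup.mk rels (FreeGroup.mk sgL4) ∈ H :=
      Subgroup.mem_map_of_mem _ (Subgroup.subset_closure (sg4_eq ▸ sg4_mem))
    rw [mk_mk] at h1
    exact h1
  · have h1 : PresentedGroup.mk rels (FreeGroup.mk sgL5) ∈ H :=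
      Subgroup.mem_map_of_mem _ (Subgroup.subset_closure (sg5_eq ▸ sg5_mem))
    rw [mk_mk] at h1
    exact h1
  · have h1 : PresentedGroup.mk rels (FreeGroup.mk sgL6) ∈ H :=
      Subgroup.mem_map_of_mem _ (Subgroup.subset_closure (sg6_eq ▸ sg6_mem))
    rw [mk_mk] at h1
    exact h1
  · have h1 : PresentedGroup.mk rels (FreeGroup.mk sgL7) ∈ H :=
      Subgroup.mem_map_of_mem _ (Subgroup.subset_closure (sg7_eq ▸ sg7_mem))
    rw [mk_mk] at h1
    exact h1

theorem words_OK : WordsOK γ ((1 : G) : G ⧸ H) words := by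
  intro v hv
  obtain ⟨h1, h2⟩ := words_ok v hv
  constructor
  · intro hr q
    apply act_eq_of_prod_eq_one γ γ_mul_self
    have := relW_trivial _ (h1 hr)
    rw [List.map_map] at this
    exact this
  · intro hr
    have hmem := sgW_mem _ (h2 hr)
    rw [act_eq_smul, prod_reverse_of_invol γ γ_mul_self]
    have hinvmem : ((v.1.map γ).prod)⁻¹ ∈ H := inv_mem hmem
    rw [MulAction.Quotient.smul_mk, smul_eq_mul, mul_one]
    apply Quotient.sound'
    rw [QuotientGroup.leftRel_apply]
    simpa using hmem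

theorem inv_all : Inv F 9 γ ((1 : G) : G ⧸ H) 74387 15519 := by
  have h0 := inv_zero F 9 γ ((1 : G) : G ⧸ H)
  have h1 := checkSteps_sound F 9 16777216 γ γ_mul_self _ words words_OK steps0 0 1 369 h0 chk0
  rw [len0] at h1
  have h2 := checkSteps_sound F 9 16777216 γ γ_mul_self _ words words_OK steps1 2000 369 795 h1 chk1
  rw [len1] at h2
  have h3 := checkSteps_sound F 9 16777216 γ γ_mul_self _ words words_OK steps2 4000 795 1229 h2 chk2
  rw [len2] at h3
  have h4 := checkSteps_sound F 9 16777216 γ γ_mul_self _ words words_OK steps3 6000 1229 1723 h3 chk3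
  rw [len3] at h4
  have h5 := checkSteps_sound F 9 16777216 γ γ_mul_self _ words words_OK steps4 8000 1723 2241 h4 chk4
  rw [len4] at h5
  have h6 := checkSteps_sound F 9 16777216 γ γ_mul_self _ words words_OK steps5 10000 2241 2760 h5 chk5
  rw [len5] at h6
  have h7 := checkSteps_sound F 9 16777216 γ γ_mul_self _ words words_OK steps6 12000 2760 3291 h6 chk6
  rw [len6] at h7
  have h8 := checkSteps_sound F 9 16777216 γ γ_mul_self _ words words_OK steps7 14000 3291 3828 h7 chk7
  rw [len7] at h8
  have h9 := checkSteps_sound F 9 16777216 γ γ_mul_self _ words words_OK steps8 16000 3828 4387 h8 chk8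
  rw [len8] at h9
  have h10 := checkSteps_sound F 9 16777216 γ γ_mul_self _ words words_OK steps9 18000 4387 4898 h9 chk9
  rw [len9] at h10
  have h11 := checkSteps_sound F 9 16777216 γ γ_mul_self _ words words_OK steps10 20000 4898 5423 h10 chk10
  rw [len10] at h11
  have h12 := checkSteps_sound F 9 16777216 γ γ_mul_self _ words words_OK steps11 22000 5423 5551 h11 chk11
  rw [len11] at h12
  have h13 := checkSteps_sound F 9 16777216 γ γ_mul_self _ words words_OK steps12 24000 5551 5968 h12 chk12
  rw [len12] at h13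
  have h14 := checkSteps_sound F 9 16777216 γ γ_mul_self _ words words_OK steps13 26000 5968 6387 h13 chk13
  rw [len13] at h14
  have h15 := checkSteps_sound F 9 16777216 γ γ_mul_self _ words words_OK steps14 28000 6387 6782 h14 chk14
  rw [len14] at h15
  have h16 := checkSteps_sound F 9 16777216 γ γ_mul_self _ words words_OK steps15 30000 6782 7199 h15 chk15
  rw [len15] at h16
  have h17 := checkSteps_sound F 9 16777216 γ γ_mul_self _ words words_OK steps16 32000 7199 7600 h16 chk16
  rw [len16] at h17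
  have h18 := checkSteps_sound F 9 16777216 γ γ_mul_self _ words words_OK steps17 34000 7600 8009 h17 chk17
  rw [len17] at h18
  have h19 := checkSteps_sound F 9 16777216 γ γ_mul_self _ words words_OK steps18 36000 8009 8403 h18 chk18
  rw [len18] at h19
  have h20 := checkSteps_sound F 9 16777216 γ γ_mul_self _ words words_OK steps19 38000 8403 8782 h19 chk19
  rw [len19] at h20
  have h21 := checkSteps_sound F 9 16777216 γ γ_mul_self _ words words_OK steps20 40000 8782 9206 h20 chk20
  rw [len20] at h21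
  have h22 := checkSteps_sound F 9 16777216 γ γ_mul_self _ words words_OK steps21 42000 9206 9579 h21 chk21
  rw [len21] at h22
  have h23 := checkSteps_sound F 9 16777216 γ γ_mul_self _ words words_OK steps22 44000 9579 9992 h22 chk22
  rw [len22] at h23
  have h24 := checkSteps_sound F 9 16777216 γ γ_mul_self _ words words_OK steps23 46000 9992 10381 h23 chk23
  rw [len23] at h24
  have h25 := checkSteps_sound F 9 16777216 γ γ_mul_self _ words words_OK steps24 48000 10381 10792 h24 chk24
  rw [len24] at h25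
  have h26 := checkSteps_sound F 9 16777216 γ γ_mul_self _ words words_OK steps25 50000 10792 11177 h25 chk25
  rw [len25] at h26
  have h27 := checkSteps_sound F 9 16777216 γ γ_mul_self _ words words_OK steps26 52000 11177 11595 h26 chk26
  rw [len26] at h27
  have h28 := checkSteps_sound F 9 16777216 γ γ_mul_self _ words words_OK steps27 54000 11595 12008 h27 chk27
  rw [len27] at h28
  have h29 := checkSteps_sound F 9 16777216 γ γ_mul_self _ words words_OK steps28 56000 12008 12427 h28 chk28
  rw [len28] at h29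
  have h30 := checkSteps_sound F 9 16777216 γ γ_mul_self _ words words_OK steps29 58000 12427 12877 h29 chk29
  rw [len29] at h30
  have h31 := checkSteps_sound F 9 16777216 γ γ_mul_self _ words words_OK steps30 60000 12877 13341 h30 chk30
  rw [len30] at h31
  have h32 := checkSteps_sound F 9 16777216 γ γ_mul_self _ words words_OK steps31 62000 13341 13742 h31 chk31
  rw [len31] at h32
  have h33 := checkSteps_sound F 9 16777216 γ γ_mul_self _ words words_OK steps32 64000 13742 14152 h32 chk32
  rw [len32] at h33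
  have h34 := checkSteps_sound F 9 16777216 γ γ_mul_self _ words words_OK steps33 66000 14152 14543 h33 chk33
  rw [len33] at h34
  have h35 := checkSteps_sound F 9 16777216 γ γ_mul_self _ words words_OK steps34 68000 14543 14934 h34 chk34
  rw [len34] at h35
  have h36 := checkSteps_sound F 9 16777216 γ γ_mul_self _ words words_OK steps35 70000 14934 15318 h35 chk35
  rw [len35] at h36
  have h37 := checkSteps_sound F 9 16777216 γ γ_mul_self _ words words_OK steps36 72000 15318 15519 h36 chk36
  rw [len36] at h37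
  have h38 := checkSteps_sound F 9 16777216 γ γ_mul_self _ words words_OK steps37 74000 15519 15519 h37 chk37
  rw [len37] at h38
  exact h38

theorem gens_top : Subgroup.closure {g : G | ∃ x < 9, g = γ x} = ⊤ := closure_gens

theorem upper : Finite (G ⧸ H) ∧ Nat.card (G ⧸ H) ≤ 14080 := by
  have := card_le F 9 16777216 γ γ_mul_self _ 74387 15519 inv_all rows mask mask_ok mask_zero rows_ok gens_top
  rw [rows_length] at this
  exact this

end Cfsg.Agent.Lib.H17.Fi22O73
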